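import Cfsg.Agent.Lib.ThreeTransp.UnitarySix.Transv

/-!
# Involutory isometries over the field with four elements

An involutory isometry is the identity, a transvection, or has a product of order five with a
product of two commuting transvections; the last case is excluded for three-transpositions.
-/

set_option autoImplicit false
set_option linter.unusedSectionVars false

namespace CfsgLib.ThreeTransp.UnitarySix

open Module CfsgLib.Classical

variable {F : Type*} [Field F] [Finite F] {V : Type*} [AddCommGroup V] [Module F V]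
  [FiniteDimensional F V] {σ : F →+* F} {B : V →ₛₗ[σ] V →ₗ[F] F}

/-- Self-adjoint of square zero. -/
def Nil2 (B : V →ₛₗ[σ] V →ₗ[F] F) (N : V →ₗ[F] V) : Prop :=
  (∀ x, N (N x) = 0) ∧ ∀ x y, B (N x) y = B x (N y)

namespace Setting

variable (S : Setting B)
include S

/-- A value different from zero occurs on the diagonal. -/
theorem exists_diag {N : V →ₗ[F] V} (hN : Nil2 B N) {x₀ : V} (hx₀ : N x₀ ≠ 0) :
    ∃ v, B (N v) v = 1 := by
  by_contra hcon
  push Not at hcon
  have hdiag : ∀ x, B (N x) x = 0 := fun x => by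
    have hfix : σ (B (N x) x) = B (N x) x := by rw [S.herm.symm, hN.2]
    exact (S.fixed _ hfix).resolve_right (hcon x)
  obtain ⟨y, -, hy⟩ := S.exists_dual (W := ⊥) (r := N x₀) (by simpa using hx₀)
  obtain ⟨w, hw⟩ := S.trace
  have h := hdiag (x₀ + w • y)
  simp only [map_add, map_smul, map_smulₛₗ, LinearMap.add_apply, LinearMap.smul_apply, smul_eq_mul,
    hdiag, hy, mul_zero, mul_one, add_zero, zero_add] at h
  rw [show B (N y) x₀ = 1 by rw [hN.2, ← S.herm.symm (N x₀) y, hy, map_one], mul_one,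
    add_comm, hw] at h
  exact one_ne_zero h

/-- Removing one transvection term. -/
theorem Nil2.strip {N : V →ₗ[F] V} (hN : Nil2 B N) {v : V} (hv : B (N v) v = 1) :
    B (N v) (N v) = 0 ∧ Nil2 B (N + (B (N v)).smulRight (N v)) ∧
      (N + (B (N v)).smulRight (N v)) v = 0 ∧ (N + (B (N v)).smulRight (N v)) (N v) = 0 := by
  have hiso : B (N v) (N v) = 0 := by rw [hN.2, hN.1, map_zero]
  refine ⟨hiso, ⟨fun x => ?_, fun x y => ?_⟩, ?_, ?_⟩
  · have e : B (N v) (N x) = 0 := by rw [hN.2, hN.1, map_zero]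
    simp only [LinearMap.add_apply, LinearMap.smulRight_apply, map_add, map_smul, hN.1, e, hiso,
      smul_zero, zero_add, add_zero, zero_smul]
  · simp only [LinearMap.add_apply, LinearMap.smulRight_apply, map_add, map_smul, map_smulₛₗ,
      LinearMap.smul_apply, smul_eq_mul, hN.2 x y, S.herm.symm]
    ring
  · rw [LinearMap.add_apply, LinearMap.smulRight_apply, hv, one_smul, S.vtwo]
  · rw [LinearMap.add_apply, LinearMap.smulRight_apply, hiso, hN.1, zero_smul, add_zero]

/-- The trichotomy for involutory isometries. -/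
theorem involution_cases (G0 : V →ₗ[F] V) (hpres : ∀ x y, B (G0 x) (G0 y) = B x y)
    (hinv : ∀ x, G0 (G0 x) = x) :
    (∀ x, G0 x = x) ∨ (∃ v, v ≠ 0 ∧ B v v = 0 ∧ ∀ x, G0 x = tv B v x) ∨
      ∃ z w, B z z = 0 ∧ B w w = 0 ∧ B z w = 0 ∧ ∀ c : F,
        (∃ x, (fun x => G0 (tv B z (tv B w x)))^[4] x ≠ c • x) ∧
        ∃ x, (fun x => G0 (tv B z (tv B w x)))^[6] x ≠ c • x := by
  set N : V →ₗ[F] V := G0 + LinearMap.id with hNdef
  have hNx : ∀ x, N x = G0 x + x := fun x => rfl
  have hG : ∀ x, G0 x = x + N x := fun x => by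
    rw [hNx, add_left_comm, S.vtwo, add_zero]
  have hN : Nil2 B N := by
    refine ⟨fun x => ?_, fun x y => ?_⟩
    · rw [hNx, hNx, map_add, hinv, add_comm (G0 x), S.vtwo]
    · rw [hNx, hNx, map_add, LinearMap.add_apply, map_add, ← hpres x (G0 y), hinv]
  by_cases h0 : ∀ x, N x = 0
  · exact Or.inl fun x => by rw [hG, h0, add_zero]
  push Not at h0
  obtain ⟨x₀, hx₀⟩ := h0
  obtain ⟨v, hv⟩ := S.exists_diag hN hx₀
  obtain ⟨hx1, hN1, h1v, h1x1⟩ := Nil2.strip S hN hv
  set x1 := N v with hx1def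
  set N1 := N + (B x1).smulRight x1 with hN1def
  have hNN1 : ∀ x, N x = N1 x + B x1 x • x1 := fun x => by
    rw [hN1def, LinearMap.add_apply N, LinearMap.smulRight_apply, add_assoc, S.vtwo, add_zero]
  by_cases h1 : ∀ x, N1 x = 0
  · refine Or.inr (Or.inl ⟨x1, fun e => ?_, hx1, fun x => ?_⟩)
    · rw [e, map_zero, LinearMap.zero_apply] at hv
      exact zero_ne_one hv
    · rw [hG, hNN1, h1, zero_add, tv_apply]
  push Not at h1
  obtain ⟨x₁, hx₁⟩ := h1
  obtain ⟨u, hu⟩ := S.exists_diag hN1 hx₁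
  have hx1v : B x1 v = 1 := hv
  set v2 := u + B x1 u • v with hv2def
  have h1v2 : N1 v2 = N1 u := by rw [hv2def, map_add, map_smul, h1v, smul_zero, add_zero]
  set x2 := N1 v2 with hx2def
  have hx2v : B x2 v = 0 := by rw [hx2def, hN1.2, h1v, map_zero]
  have hx2v2 : B x2 v2 = 1 := by
    rw [hv2def, map_add, map_smul, hx2v, smul_zero, add_zero, h1v2, hu]
  have hx1v2 : B x1 v2 = 0 := by
    rw [hv2def, map_add, map_smul, hx1v, smul_eq_mul, mul_one, S.two]
  have hx12 : B x1 x2 = 0 := by rw [hx2def, ← hN1.2, h1x1, map_zero, LinearMap.zero_apply]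
  have hx21 : B x2 x1 = 0 := S.symm0 hx12
  have hx22 : B x2 x2 = 0 := (Nil2.strip S hN1 (v := v2) hx2v2).1
  have hNx1 : N x1 = 0 := hN.1 v
  have hNx2 : N x2 = 0 := by
    rw [hNN1, hx2def, hN1.1, zero_add, ← hx2def, hx12, zero_smul]
  have hNv2 : N v2 = x2 := by rw [hNN1, hx1v2, zero_smul, add_zero]
  obtain ⟨a, ha⟩ := S.exists_iso (r := x1) (u := v + v2) hx1 (by rw [map_add, hx1v, hx1v2, add_zero])
  set z := v + v2 + a • x1 with hzdef
  have hx1z : B x1 z = 1 := by
    rw [hzdef, map_add, map_smul, map_add, hx1v, hx1v2, hx1, smul_zero, add_zero, add_zero]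
  have hx2z : B x2 z = 1 := by
    rw [hzdef, map_add, map_smul, map_add, hx2v, hx2v2, hx21, smul_zero, add_zero, zero_add]
  have hzx1 : B z x1 = 1 := by rw [← S.herm.symm x1 z, hx1z, map_one]
  have hzx2 : B z x2 = 1 := by rw [← S.herm.symm x2 z, hx2z, map_one]
  have hs : B (x1 + x2) (x1 + x2) = 0 := by
    simp only [map_add, LinearMap.add_apply, hx1, hx12, hx21, hx22, add_zero]
  have hw0 : B (x1 + x2) (v2 + B z v2 • x1) = 1 := by
    simp only [map_add, LinearMap.add_apply, map_smul, hx1v2, hx2v2, hx1, hx21, smul_zero,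
      add_zero, zero_add]
  obtain ⟨b, hb⟩ := S.exists_iso hs hw0
  set w := v2 + B z v2 • x1 + b • (x1 + x2) with hwdef
  have hzw : B z w = 0 := by
    simp only [hwdef, map_add, map_smul, hzx1, hzx2, smul_eq_mul, mul_one, S.two, mul_zero, add_zero]
  have hx1w : B x1 w = 0 := by
    simp only [hwdef, map_add, map_smul, hx1, hx12, hx1v2, smul_zero, add_zero]
  have hx2w : B x2 w = 1 := by
    simp only [hwdef, map_add, map_smul, hx21, hx22, hx2v2, smul_zero, add_zero]
  have hwx1 : B w x1 = 0 := S.symm0 hx1w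
  have hwx2 : B w x2 = 1 := by rw [← S.herm.symm x2 w, hx2w, map_one]
  have hwz : B w z = 0 := S.symm0 hzw
  have hNz : N z = x1 + x2 := by
    rw [hzdef, map_add, map_add, map_smul, hNx1, smul_zero, add_zero, hNv2]
  have hNw : N w = x2 := by
    simp only [hwdef, map_add, map_smul, hNx1, hNx2, hNv2, smul_zero, add_zero]
  refine Or.inr (Or.inr ⟨z, w, ha, hb, hzw, fun c => ?_⟩)
  set M : V → V := fun x => G0 (tv B z (tv B w x)) with hM
  have hMa : ∀ p q : V, M (p + q) = M p + M q := fun p q => by simp only [hM, map_add]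
  have m1 : M x1 = z + x2 := by
    simp only [hM, tv_apply, hwx1, zero_smul, map_zero, smul_zero, add_zero, zero_add, hzx1, one_smul,
      hG, map_add, hNx1, hNz]
    rw [show x1 + z + (x1 + x2) = z + x2 + (x1 + x1) by abel, S.vtwo, add_zero]
  have mz : M z = z + (x1 + x2) := by
    simp only [hM, tv_apply, hwz, ha, zero_smul, add_zero, hG, hNz]
  have m2 : M x2 = x1 + z + x2 + w := by
    simp only [hM, tv_apply, hwx2, hzx2, map_add, hzw, zero_smul, map_zero, add_zero, zero_add,
      one_smul, hG, hNx2, hNz, hNw]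
    rw [show x2 + z + w + (x1 + x2 + x2) = x1 + z + x2 + w + (x2 + x2) by abel, S.vtwo, add_zero]
  have mw : M w = w + x2 := by
    simp only [hM, tv_apply, hb, zero_smul, add_zero, hzw, hG, hNw]
  have e1 : M (M x1) = w := by
    rw [m1, hMa, mz, m2, show z + (x1 + x2) + (x1 + z + x2 + w) = w + ((z + z) + (x1 + x1) + (x2 + x2))
      by abel]
    simp only [S.vtwo, add_zero]
  have e4 : M^[4] x1 = x1 + z := by
    show M (M (M (M x1))) = _
    rw [e1, mw, hMa, mw, m2, show w + x2 + (x1 + z + x2 + w) = x1 + z + ((w + w) + (x2 + x2))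
      by abel, S.vtwo, S.vtwo, add_zero, add_zero]
  have e6 : M^[6] x1 = z + x2 := by
    rw [Function.iterate_succ_apply', Function.iterate_succ_apply', e4, hMa, mz, m1,
      show z + x2 + (z + (x1 + x2)) = x1 + ((z + z) + (x2 + x2)) by abel, S.vtwo, S.vtwo, add_zero,
      add_zero, m1]
  refine ⟨⟨x1, fun e => ?_⟩, ⟨x1, fun e => ?_⟩⟩
  · rw [e4] at e
    have := congrArg (B x1) e
    rw [map_add, map_smul, hx1, hx1z, smul_zero, zero_add] at this
    exact one_ne_zero this
  · rw [e6] at e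
    have := congrArg (B x1) e
    rw [map_add, map_smul, hx1, hx1z, hx12, smul_zero, add_zero] at this
    exact one_ne_zero this

end Setting

end CfsgLib.ThreeTransp.UnitarySix
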