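import Cfsg.Agent.Lib.ThreeTransp.UnitarySix.Transv

/-!
# Relations between commuting transvections over the field with four elements

No product of at most four of them is a scalar, and the products of five are those along a line.
-/

set_option autoImplicit false
set_option linter.unusedSectionVars false

namespace CfsgLib.ThreeTransp.UnitarySix

open Module CfsgLib.Classical

variable {F : Type*} [Field F] [Finite F] {V : Type*} [AddCommGroup V] [Module F V]
  [FiniteDimensional F V] {σ : F →+* F} {B : V →ₛₗ[σ] V →ₗ[F] F}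

/-- Two vectors spanning different points. -/
def Npr (v w : V) : Prop := (∀ c : F, w ≠ c • v) ∧ ∀ c : F, v ≠ c • w

namespace Setting

variable (S : Setting B)
include S

theorem exists_perp_list (h6 : 6 ≤ finrank F V) {L : List V} (hL : L.length ≤ 5) :
    ∃ z : V, z ≠ 0 ∧ ∀ v ∈ L, B v z = 0 := by
  let f : V →ₗ[F] (Fin L.length → F) := LinearMap.pi fun i => B (L.get i)
  have hk : LinearMap.ker f ≠ ⊥ := by
    intro h
    have h1 := LinearMap.finrank_le_finrank_of_injective (LinearMap.ker_eq_bot.1 h)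
    rw [Module.finrank_fin_fun] at h1
    omega
  obtain ⟨z, hz, hz0⟩ := Submodule.exists_mem_ne_zero_of_ne_bot hk
  rw [LinearMap.mem_ker] at hz
  refine ⟨z, hz0, fun v hv => ?_⟩
  obtain ⟨i, rfl⟩ := List.get_of_mem hv
  exact congrFun hz i

/-- A dual vector relative to two vectors. -/
theorem exists_dual2 {x y r : V} (hr : r ∉ Submodule.span F {x, y}) :
    ∃ d, B x d = 0 ∧ B y d = 0 ∧ B r d = 1 := by
  obtain ⟨d, h1, h2⟩ := S.exists_dual hr
  exact ⟨d, h1 x (Submodule.subset_span (Set.mem_insert _ _)),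
    h1 y (Submodule.subset_span (Set.mem_insert_of_mem _ rfl)), h2⟩

theorem rel_one {v : V} (h : ∀ x, B v x • v = 0) : v = 0 := by
  by_contra hv
  obtain ⟨z, -, hz⟩ := S.exists_dual (W := ⊥) (r := v) (by simpa using hv)
  exact hv (by simpa [hz] using h z)

theorem rel_two {v w : V} (hn : Npr (F := F) v w) :
    ¬ ∀ x, B v x • v + B w x • w = 0 := by
  intro h
  obtain ⟨d, h1, h2⟩ := S.exists_dual (W := Submodule.span F {w}) (r := v) (by
    rw [Submodule.mem_span_singleton]
    rintro ⟨c, hc⟩
    exact hn.2 c hc.symm)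
  have := h d
  rw [h2, h1 w (Submodule.mem_span_singleton_self w), one_smul, zero_smul, add_zero] at this
  exact hn.2 0 (by rw [this, zero_smul])

/-- A third point in a relation lies in the span of two others. -/
theorem mem_span_of_rel {x y z w : V} (hzw : Npr (F := F) z w)
    (h : ∀ u, B x u • x + B y u • y + (B z u • z + B w u • w) = 0) :
    z ∈ Submodule.span F {x, y} := by
  by_contra hz
  obtain ⟨d, d1, d2, d3⟩ := S.exists_dual2 hz
  have := h d
  rw [d1, d2, d3, zero_smul, zero_smul, one_smul, zero_add, zero_add] at this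
  refine hzw.2 (B w d) ?_
  exact S.veq_of_add this

theorem coord_ne_zero {x y z : V} (hzy : Npr (F := F) z y) {a b : F} (e : a • x + b • y = z) :
    a ≠ 0 := fun h => hzy.2 b (by rw [← e, h, zero_smul, zero_add])

theorem rel_three {x y z : V} (hxy : Npr (F := F) x y) (hxz : Npr (F := F) x z)
    (hyz : Npr (F := F) y z) : ¬ ∀ u, B x u • x + B y u • y + B z u • z = 0 := by
  intro h
  have hz : z ∈ Submodule.span F {x, y} := by
    by_contra hz
    obtain ⟨d, d1, d2, d3⟩ := S.exists_dual2 hz
    have := h d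
    rw [d1, d2, d3, zero_smul, zero_smul, one_smul, zero_add, zero_add] at this
    exact hxz.1 0 (by rw [this, zero_smul])
  obtain ⟨a, b, e⟩ := Submodule.mem_span_pair.1 hz
  have ha : a ≠ 0 := S.coord_ne_zero ⟨hyz.2, hyz.1⟩ e
  have hb : b ≠ 0 := fun h0 => hxz.1 a (by rw [← e, h0, zero_smul, add_zero])
  obtain ⟨d, d1, d2⟩ := S.exists_dual (W := Submodule.span F {y}) (r := x) (by
    rw [Submodule.mem_span_singleton]
    rintro ⟨c, hc⟩
    exact hxy.2 c hc.symm)
  have d1' := d1 y (Submodule.mem_span_singleton_self y)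
  have hzd : B z d = σ a := by
    rw [← e, map_add, LinearMap.add_apply, map_smulₛₗ, map_smulₛₗ, LinearMap.smul_apply,
      LinearMap.smul_apply, d1', d2, smul_zero, add_zero, smul_eq_mul, mul_one]
  have := h d
  rw [d1', d2, hzd, zero_smul, one_smul, add_zero, ← e, smul_add, smul_smul, smul_smul,
    mul_comm (σ a) a, S.norm a ha, one_smul, ← add_assoc, S.vtwo, zero_add, smul_eq_zero] at this
  rcases this with h1 | h1
  · rcases mul_eq_zero.1 h1 with h2 | h2
    · exact ha (by simpa using h2)
    · exact hb h2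
  · exact hxy.1 0 (by rw [h1, zero_smul])

theorem rel_four {x y z w : V} (hxy : Npr (F := F) x y) (hxz : Npr (F := F) x z)
    (hxw : Npr (F := F) x w) (hyz : Npr (F := F) y z) (hyw : Npr (F := F) y w)
    (hzw : Npr (F := F) z w) :
    ¬ ∀ u, B x u • x + B y u • y + (B z u • z + B w u • w) = 0 := by
  intro h
  obtain ⟨a, b, e⟩ := Submodule.mem_span_pair.1 (S.mem_span_of_rel hzw h)
  obtain ⟨c, d, e'⟩ := Submodule.mem_span_pair.1 (S.mem_span_of_rel (x := x) (y := y) (z := w) (w := z)
    ⟨hzw.2, hzw.1⟩ (fun u => by rw [add_comm (B w u • w)]; exact h u))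
  have ha : a ≠ 0 := S.coord_ne_zero ⟨hyz.2, hyz.1⟩ e
  have hc : c ≠ 0 := S.coord_ne_zero ⟨hyw.2, hyw.1⟩ e'
  obtain ⟨t, t1, t2⟩ := S.exists_dual (W := Submodule.span F {y}) (r := x) (by
    rw [Submodule.mem_span_singleton]
    rintro ⟨k, hk⟩
    exact hxy.2 k hk.symm)
  have t1' := t1 y (Submodule.mem_span_singleton_self y)
  have hzt : B z t = σ a := by
    rw [← e, map_add, LinearMap.add_apply, map_smulₛₗ, map_smulₛₗ, LinearMap.smul_apply,
      LinearMap.smul_apply, t1', t2, smul_zero, add_zero, smul_eq_mul, mul_one]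
  have hwt : B w t = σ c := by
    rw [← e', map_add, LinearMap.add_apply, map_smulₛₗ, map_smulₛₗ, LinearMap.smul_apply,
      LinearMap.smul_apply, t1', t2, smul_zero, add_zero, smul_eq_mul, mul_one]
  have := h t
  rw [t1', t2, hzt, hwt, zero_smul, one_smul, add_zero, ← e, ← e', smul_add, smul_add, smul_smul,
    smul_smul, smul_smul, smul_smul, mul_comm (σ a) a, mul_comm (σ c) c, S.norm a ha, S.norm c hc,
    one_smul,
    show x + (x + (σ a * b) • y + (x + (σ c * d) • y)) = (x + x) + (x + (σ a * b + σ c * d) • y) by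
      rw [add_smul]; abel,
    S.vtwo, zero_add] at this
  exact hxy.2 _ (S.veq_of_add this)

theorem field_three {ω : F} (hω : ω + σ ω = 1) {l : F} (hl : l ≠ 0) :
    l = 1 ∨ l = ω ∨ l = ω + 1 := by
  have hfix : ∀ t : F, t ≠ 0 → t ≠ 1 → t * t + t + 1 = 0 := by
    intro t h0 h1
    obtain ⟨w, hw⟩ := S.trace
    have hs : σ (σ t) = t := S.herm.conj.invol t
    have h2 : σ (t + σ t) = t + σ t := by rw [map_add, hs, add_comm]
    rcases S.fixed _ h2 with h3 | h3
    · rcases S.fixed t (S.eq_of_add h3).symm with h4 | h4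
      · exact absurd h4 h0
      · exact absurd h4 h1
    · linear_combination t * h3 - S.norm t h0 + t * S.two 1
  rcases eq_or_ne l 1 with h1 | h1
  · exact Or.inl h1
  have hω0 : ω ≠ 0 := fun e => by simp [e] at hω
  have hω1 : ω ≠ 1 := fun e => by
    rw [e, map_one, S.two] at hω
    exact zero_ne_one hω
  have : (l - ω) * (l - (ω + 1)) = 0 := by
    linear_combination hfix l hl h1 + hfix ω hω0 hω1 - (l * ω + l) * S.two 1 - S.two 1
      + 0 * S.two (l * ω)
  rcases mul_eq_zero.1 this with h | h
  · exact Or.inr (Or.inl (sub_eq_zero.1 h))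
  · exact Or.inr (Or.inr (sub_eq_zero.1 h))

/-- The five points of a line give a relation. -/
theorem rel_line {ω : F} (hω : ω + σ ω = 1) (v w x : V) :
    tsum B [v, w, v + (1 : F) • w, v + ω • w, v + (ω + 1) • w] x = 0 := by
  simp only [tsum, List.map_cons, List.map_nil, List.sum_cons, List.sum_nil, map_add, map_smulₛₗ,
    LinearMap.add_apply, LinearMap.smul_apply, smul_eq_mul, map_one, add_zero, one_mul]
  have h1 : σ ω = ω + 1 := by linear_combination hω - S.two ω
  have hω0 : ω ≠ 0 := fun e => by simp [e] at hω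
  have hn : ω * ω + ω = 1 := by
    have := S.norm ω hω0
    rw [h1] at this
    linear_combination this
  rw [h1]
  match_scalars
  · linear_combination S.two (B v x) + S.two (B v x) + 2 * S.two (B w x) + ω * S.two (B w x)
  · linear_combination S.two (B v x) + ω * S.two (B v x) + S.two (B w x) + 2 * B w x * hn
      + (2 + ω) * S.two (B w x)

/-- In a relation of five, the third point is on the line of the first two. -/
theorem rel_five {v w u s t : V} (hvw : Npr (F := F) v w) (hvt : Npr (F := F) v t)
    (hst : Npr (F := F) s t)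
    (h : ∀ x, B v x • v + B w x • w + (B u x • u + (B s x • s + B t x • t)) = 0) :
    u ∈ Submodule.span F {v, w} := by
  by_contra hu
  set W := Submodule.span F {s, t} with hW
  have hs : s ∈ W := Submodule.subset_span (Set.mem_insert _ _)
  have ht : t ∈ W := Submodule.subset_span (Set.mem_insert_of_mem _ rfl)
  have huW : u ∈ W := by
    obtain ⟨d, d1, d2, d3⟩ := S.exists_dual2 hu
    have := h d
    rw [d1, d2, d3, zero_smul, zero_smul, one_smul, zero_add, zero_add] at this
    rw [S.veq_of_add this]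
    exact add_mem (W.smul_mem _ hs) (W.smul_mem _ ht)
  have key : ∀ {a b : V}, Npr (F := F) a b →
      (∀ x, B a x • a + B b x • b + (B u x • u + (B s x • s + B t x • t)) = 0) → a ∈ W := by
    intro a b hab hr
    by_contra ha
    obtain ⟨d, d1, d2⟩ := S.exists_dual ha
    have := hr d
    rw [d2, d1 u huW, d1 s hs, d1 t ht, one_smul, zero_smul, zero_smul, zero_smul, add_zero,
      add_zero, add_zero] at this
    exact hab.2 (B b d) (S.veq_of_add this)
  have hv := key hvw h
  have hw := key ⟨hvw.2, hvw.1⟩ (fun x => by rw [add_comm (B w x • w)]; exact h x)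
  obtain ⟨c, e, hve⟩ := Submodule.mem_span_pair.1 hv
  obtain ⟨a, b, hwe⟩ := Submodule.mem_span_pair.1 hw
  have hc : c ≠ 0 := fun h0 => hvt.2 e (by rw [← hve, h0, zero_smul, zero_add])
  set U := Submodule.span F {v, w} with hU
  have hvU : v ∈ U := Submodule.subset_span (Set.mem_insert _ _)
  have hwU : w ∈ U := Submodule.subset_span (Set.mem_insert_of_mem _ rfl)
  have e1 : w - (a * c⁻¹) • v = (b - a * c⁻¹ * e) • t := by
    rw [← hwe, ← hve, smul_add, smul_smul, smul_smul, sub_smul, mul_assoc a c⁻¹ c,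
      inv_mul_cancel₀ hc, mul_one]
    abel
  have hne : b - a * c⁻¹ * e ≠ 0 := fun h0 => by
    rw [h0, zero_smul, sub_eq_zero] at e1
    exact hvw.1 _ e1
  have htU : t ∈ U := (U.smul_mem_iff hne).1 (e1 ▸ sub_mem hwU (U.smul_mem _ hvU))
  have hsU : s ∈ U := (U.smul_mem_iff hc).1 (by
    rw [show c • s = v - e • t by rw [← hve]; abel]
    exact sub_mem hvU (U.smul_mem _ htU))
  obtain ⟨i, j, hij⟩ := Submodule.mem_span_pair.1 huW
  exact hu (hij ▸ add_mem (U.smul_mem _ hsU) (U.smul_mem _ htU))

end Setting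

end CfsgLib.ThreeTransp.UnitarySix
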