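import Cfsg.Prelude.Def_FischerSpaces
import Cfsg.Agent.Lib.Classical.HermMatrixSimple
import Cfsg.Agent.Lib.ThreeTransp.UnitarySix.Bad
import Cfsg.Agent.Lib.ThreeTransp.UnitarySix.Rel

/-!
# Three-transpositions of the six-dimensional unitary group over the field with four elements

Every conjugation-invariant set of them consists of all transvections; we derive from this the
facts on commuting members used for the Fischer groups.
-/

set_option autoImplicit false
set_option linter.unusedSectionVars false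

namespace CfsgLib.ThreeTransp.UnitarySix

open Module CfsgLib.Classical

/-- The line facts on a set `E` of involutions. -/
structure LineFacts {X : Type*} [Group X] (E : Set X) : Prop where
  sep : ∀ a ∈ E, ∀ b ∈ E, (∀ e ∈ E, Commute a e ↔ Commute b e) → a = b
  witness : ∀ a ∈ E, ∀ b ∈ E, ¬ Commute a b → ∃ e ∈ E, e ≠ a ∧ Commute a e ∧ ¬ Commute b e
  noncomm : ∀ a ∈ E, ∃ e ∈ E, ¬ Commute a e
  prod_ne : ∀ l : List X, l.Nodup → (∀ a ∈ l, a ∈ E) → (∀ a ∈ l, ∀ b ∈ l, Commute a b) →
    l ≠ [] → l.length ≤ 4 → l.prod ≠ 1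
  five : ∀ p ∈ E, ∀ q ∈ E, p ≠ q → Commute p q → ∃ Y : List X, Y.Nodup ∧ Y.length = 3 ∧
    (∀ r, r ∈ Y ↔ r ∈ E ∧ r ≠ p ∧ r ≠ q ∧ Commute p r ∧ Commute q r ∧
      ∀ e ∈ E, Commute p e → Commute q e → Commute r e) ∧
    (∀ a ∈ Y, ∀ b ∈ Y, Commute a b) ∧ p * q * Y.prod = 1 ∧
    ∀ r s t : X, r ∈ E → s ∈ E → t ∈ E → [p, q, r, s, t].Nodup →
      (∀ a ∈ [p, q, r, s, t], ∀ b ∈ [p, q, r, s, t], Commute a b) → p * q * (r * s * t) = 1 → r ∈ Y

variable {F : Type*} [Field F] [Finite F] {V : Type*} [AddCommGroup V] [Module F V]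
  [FiniteDimensional F V] {σ : F →+* F} {B : V →ₛₗ[σ] V →ₗ[F] F}
  {X : Type*} [Group X]

/-- `e` is the image of the transvection along the isotropic vector `v`. -/
def Rep (π : ↥(sIsom B) →* X) (v : V) (e : X) : Prop :=
  v ≠ 0 ∧ B v v = 0 ∧ ∃ g : ↥(sIsom B), π g = e ∧ ∀ x, g.1.1 x = tv B v x

theorem sIsom_ext {g h : ↥(sIsom B)} (e : ∀ x, g.1.1 x = h.1.1 x) : g = h :=
  Subtype.ext (Subtype.ext (LinearEquiv.ext e))

theorem sIsom_list_prod (L : List ↥(sIsom B)) (M : List (V →ₗ[F] V))
    (h : List.Forall₂ (fun g f => ∀ x, g.1.1 x = f x) L M) : ∀ x, L.prod.1.1 x = M.prod x := by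
  induction h with
  | nil => intro x; rfl
  | cons hgf _ ih =>
    intro x
    rw [List.prod_cons, List.prod_cons, Module.End.mul_apply, ← ih, ← hgf]
    rfl

namespace Setting

variable (S : Setting B)
include S

theorem exists_tvEl {v : V} (hv : B v v = 0) : ∃ g : ↥(sIsom B), ∀ x, g.1.1 x = tv B v x := by
  obtain ⟨g, hg⟩ := S.herm.exists_uTv S.sep hv (c := 1) (by rw [map_one, S.two])
  exact ⟨⟨g, MonoidHom.mem_ker.2 (S.herm.idet_uTv hg)⟩, fun x => by
    rw [tv_apply]; exact (hg.2.2 x).trans (by rw [one_mul])⟩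

theorem rep_unique {π : ↥(sIsom B) →* X} {v : V} {e e' : X} (h : Rep π v e) (h' : Rep π v e') :
    e = e' := by
  obtain ⟨-, -, g, rfl, hg⟩ := h
  obtain ⟨-, -, g', rfl, hg'⟩ := h'
  rw [sIsom_ext fun x => (hg x).trans (hg' x).symm]

theorem rep_smul {π : ↥(sIsom B) →* X} {v : V} {e : X} {c : F} (hc : c ≠ 0) (h : Rep π v e) :
    Rep π (c • v) e := by
  refine ⟨smul_ne_zero hc h.1, by rw [S.herm.smul_self, h.2.1, mul_zero], ?_⟩
  rw [S.tv_smul hc]
  exact h.2.2

theorem rep_conj {π : ↥(sIsom B) →* X} {v : V} {e : X} (h : Rep π v e) (k : ↥(sIsom B)) :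
    Rep π (k.1.1 v) (π k * e * (π k)⁻¹) := by
  obtain ⟨hv0, hv, g, rfl, hg⟩ := h
  refine ⟨fun e => hv0 (k.1.1.injective (e.trans (map_zero _).symm)), by rw [k.1.2]; exact hv,
    k * g * k⁻¹, by rw [map_mul, map_mul, map_inv], fun x => ?_⟩
  change k.1.1 (g.1.1 (k.1.1.symm x)) = _
  rw [hg, tv_apply, tv_apply, map_add, map_smul, LinearEquiv.apply_symm_apply,
    ← k.1.2 v (k.1.1.symm x), LinearEquiv.apply_symm_apply]

theorem rep_commute_iff {π : ↥(sIsom B) →* X}
    (hker : ∀ g, π g = 1 → ∃ c : F, ∀ x, g.1.1 x = c • x) {v w : V} {e e' : X}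
    (h : Rep π v e) (h' : Rep π w e') : Commute e e' ↔ B v w = 0 := by
  obtain ⟨-, hv, g, rfl, hg⟩ := h
  obtain ⟨-, hw, g', rfl, hg'⟩ := h'
  refine ⟨fun hc => ?_, fun h0 => ?_⟩
  · obtain ⟨l, hl⟩ := hker ((g' * g)⁻¹ * (g * g')) (by
      rw [map_mul, map_inv, map_mul, map_mul, hc.eq, inv_mul_cancel])
    refine S.orth_of_commute hv hw (l := l) fun x => ?_
    have h1 : (g * g').1.1 x = (g' * g).1.1 (((g' * g)⁻¹ * (g * g')).1.1 x) := by
      conv_lhs => rw [← mul_inv_cancel_left (g' * g) (g * g')]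
      rfl
    rw [hl, map_smul] at h1
    rw [← hg, ← hg', ← hg' (tv B v x), ← hg x]
    exact h1
  · have : g * g' = g' * g := sIsom_ext fun x => by
      change g.1.1 (g'.1.1 x) = g'.1.1 (g.1.1 x)
      rw [hg', hg, hg, hg', S.commute_of_orth h0]
    exact (show Commute g g' from this).map π

theorem lineFacts_of_hom (h6 : 6 ≤ finrank F V) (π : ↥(sIsom B) →* X) (hsurj : Function.Surjective π)
    (hker : ∀ g, π g = 1 → ∃ c : F, ∀ x, g.1.1 x = c • x) {E : Set X}
    (hinv : ∀ e ∈ E, e ≠ 1 ∧ e * e = 1) (hconj : ∀ g : X, ∀ e ∈ E, g * e * g⁻¹ ∈ E)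
    (htt : ∀ a ∈ E, ∀ b ∈ E, (a * b) ^ 2 = 1 ∨ (a * b) ^ 3 = 1) (hne : E.Nonempty) :
    LineFacts E := by
  classical
  have hiter : ∀ (g : ↥(sIsom B)) (n : ℕ) x, (g ^ n).1.1 x = (fun y => g.1.1 y)^[n] x := by
    intro g n
    induction n with
    | zero => intro x; rfl
    | succ n ih =>
      intro x
      rw [pow_succ', Function.iterate_succ_apply', ← ih]
      rfl
  -- every member is a transvection
  have hrep : ∀ e ∈ E, ∃ v, Rep π v e := by
    intro e he
    obtain ⟨g₁, hg₁⟩ := hsurj e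
    obtain ⟨c, hc⟩ := hker (g₁ ^ 2) (by rw [map_pow, hg₁, pow_two, (hinv e he).2])
    obtain ⟨g, rfl, hg2⟩ : ∃ g, π g = e ∧ ∀ x, g.1.1 (g.1.1 x) = x := by
      have hc0 : c ≠ 0 := by
        rintro rfl
        obtain ⟨z, hz, -⟩ := S.exists_perp (0 : V) 0 0
        exact hz ((g₁ ^ 2).1.1.injective (by rw [hc, zero_smul, map_zero]))
      have hc3 : c ^ 3 = 1 := by
        rcases eq_or_ne c 1 with rfl | h1
        · rw [one_pow]
        · have hq : c * c + c + 1 = 0 := by
            have hs : σ (c + σ c) = c + σ c := by rw [map_add, S.herm.conj.invol, add_comm]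
            rcases S.fixed _ hs with h4 | h4
            · exact absurd ((S.fixed c (S.eq_of_add h4).symm).resolve_left hc0) h1
            · linear_combination c * h4 - S.norm c hc0 + c * S.two 1
          linear_combination (c - 1) * hq
      refine ⟨g₁ ^ 3, ?_, fun x => ?_⟩
      · rw [map_pow, hg₁, pow_succ, pow_two, (hinv e he).2, one_mul]
      · have h6 : (g₁ ^ 3).1.1 ((g₁ ^ 3).1.1 x) = ((g₁ ^ 2) ^ 3).1.1 x := by
          rw [← pow_mul, show 2 * 3 = 3 + 3 by norm_num, pow_add]
          rfl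
        rw [h6, hiter, Function.iterate_succ_apply, Function.iterate_succ_apply,
          Function.iterate_succ_apply, Function.iterate_zero_apply]
        simp only [hc, smul_smul]
        rw [show c * (c * c) = c ^ 3 by ring, hc3, one_smul]
    rcases S.involution_cases g.1.1.toLinearMap (fun x y => g.1.2 x y) hg2 with
      h | ⟨v, hv0, hv, h⟩ | ⟨z, w, hz, hw, hzw, hbad⟩
    · exact absurd (by rw [show g = 1 from sIsom_ext h, map_one]) (hinv _ he).1
    · exact ⟨v, hv0, hv, g, rfl, h⟩
    obtain ⟨tz, htz⟩ := S.exists_tvEl hz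
    obtain ⟨tw, htw⟩ := S.exists_tvEl hw
    have hkinv : (tz * tw)⁻¹ = tz * tw := by
      refine inv_eq_of_mul_eq_one_right (sIsom_ext fun x => ?_)
      change tz.1.1 (tw.1.1 (tz.1.1 (tw.1.1 x))) = x
      rw [htz, htw, htz, htw, S.commute_of_orth hzw x, S.tv_tv hw, S.tv_tv hz]
    have hprod : π g * (π (tz * tw) * π g * (π (tz * tw))⁻¹) = π ((g * (tz * tw)) ^ 2) := by
      rw [← map_inv, hkinv, ← map_mul, ← map_mul, ← map_mul, pow_two]
      congr 1
    have happly : ∀ x, (g * (tz * tw)).1.1 x = g.1.1 (tv B z (tv B w x)) := fun x => by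
      change g.1.1 (tz.1.1 (tw.1.1 x)) = _
      rw [htz, htw]
    have hno : ∀ n, (n = 4 ∨ n = 6) → π ((g * (tz * tw)) ^ n) ≠ 1 := by
      intro n hn h1
      obtain ⟨c, hc⟩ := hker _ h1
      rcases hn with rfl | rfl
      · obtain ⟨x, hx⟩ := (hbad c).1
        refine hx ?_
        rw [← hc, hiter]
        simp only [happly]
        rfl
      · obtain ⟨x, hx⟩ := (hbad c).2
        refine hx ?_
        rw [← hc, hiter]
        simp only [happly]
        rfl
    rcases htt _ he _ (hconj (π (tz * tw)) _ he) with h | h <;>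
      rw [hprod, ← map_pow, ← pow_mul] at h
    · exact absurd h (hno _ (Or.inl rfl))
    · exact absurd h (hno _ (Or.inr rfl))
  -- every isotropic point occurs
  have hmove : ∀ {v w : V} {e : X}, e ∈ E → Rep π v e → w ≠ 0 → B w w = 0 → B v w ≠ 0 →
      ∃ e' ∈ E, Rep π w e' := by
    intro v w e he hr hw0 hw hvw
    obtain ⟨tw, htw⟩ := S.exists_tvEl hw
    obtain ⟨tu, htu⟩ := S.exists_tvEl hr.2.1
    obtain ⟨c, hc, hcw⟩ := S.braid_move hr.2.1 hw hvw
    refine ⟨_, hconj (π (tu * tw)) e he, ?_⟩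
    have h1 := S.rep_conj hr (tu * tw)
    rw [show (tu * tw).1.1 v = c • w by rw [← hcw, ← htw, ← htu]; rfl] at h1
    have h2 := S.rep_smul (inv_ne_zero hc) h1
    rwa [smul_smul, inv_mul_cancel₀ hc, one_smul] at h2
  have hall : ∀ {w : V}, w ≠ 0 → B w w = 0 → ∃ e ∈ E, Rep π w e := by
    intro w hw0 hw
    obtain ⟨e, he⟩ := hne
    obtain ⟨v, hv⟩ := hrep e he
    by_cases hvw : B v w = 0
    · obtain ⟨z, hz, h1, h2⟩ := S.exists_both hv.2.1 hw hvw hv.1 hw0
      obtain ⟨e', he', hr'⟩ := hmove he hv (fun e => h1 (by rw [e, map_zero])) hz h1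
      exact hmove he' hr' hw0 hw fun e => h2 (S.symm0 e)
    · exact hmove he hv hw0 hw hvw
  have hnpr : ∀ {v w : V} {e e' : X}, Rep π v e → Rep π w e' → e ≠ e' → Npr (F := F) v w := by
    intro v w e e' h h' hee
    refine ⟨fun c hc => hee ?_, fun c hc => hee ?_⟩
    · exact S.rep_unique (S.rep_smul (c := c) (fun h0 => h'.1 (by rw [hc, h0, zero_smul])) h)
        (hc ▸ h')
    · exact (S.rep_unique (S.rep_smul (c := c) (fun h0 => h.1 (by rw [hc, h0, zero_smul])) h')
        (hc ▸ h)).symm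
  have hcm : ∀ {v w : V} {e e' : X}, Rep π v e → Rep π w e' → (Commute e e' ↔ B v w = 0) :=
    fun h h' => S.rep_commute_iff hker h h'
  choose f hf using hrep
  let fv : X → V := fun e => if he : e ∈ E then f e he else 0
  have hfv : ∀ e ∈ E, Rep π (fv e) e := fun e he => by
    simp only [fv, dif_pos he]; exact hf e he
  -- products of pairwise commuting members
  have hlist : ∀ l : List X, (∀ a ∈ l, a ∈ E) → (∀ a ∈ l, ∀ b ∈ l, Commute a b) →
      ∃ g : ↥(sIsom B), π g = l.prod ∧ ∀ x, g.1.1 x = x + tsum B (l.map fv) x := by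
    intro l hlE hlc
    have hex : ∀ l : List X, (∀ a ∈ l, a ∈ E) → ∃ L : List ↥(sIsom B), π L.prod = l.prod ∧
        List.Forall₂ (fun g m => ∀ x, g.1.1 x = m x) L ((l.map fv).map (tv B)) := by
      intro l hl
      induction l with
      | nil => exact ⟨[], by simp, List.Forall₂.nil⟩
      | cons a l ih =>
        obtain ⟨L, h1, h2⟩ := ih fun b hb => hl b (List.mem_cons_of_mem _ hb)
        obtain ⟨-, -, g, hg, hgx⟩ := hfv a (hl a List.mem_cons_self)
        exact ⟨g :: L, by rw [List.prod_cons, List.prod_cons, map_mul, hg, h1],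
          List.Forall₂.cons hgx h2⟩
    obtain ⟨L, h1, h2⟩ := hex l hlE
    refine ⟨L.prod, h1, fun x => ?_⟩
    rw [sIsom_list_prod L _ h2]
    refine prod_tv ?_ ?_ x
    · intro v hv
      obtain ⟨a, ha, rfl⟩ := List.mem_map.1 hv
      exact (hfv a (hlE a ha)).2.1
    · intro v hv w hw
      obtain ⟨a, ha, rfl⟩ := List.mem_map.1 hv
      obtain ⟨b, hb, rfl⟩ := List.mem_map.1 hw
      exact (hcm (hfv a (hlE a ha)) (hfv b (hlE b hb))).1 (hlc a ha b hb)
  have hrel : ∀ l : List X, (∀ a ∈ l, a ∈ E) → (∀ a ∈ l, ∀ b ∈ l, Commute a b) →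
      l.length ≤ 5 → l.prod = 1 → ∀ x, tsum B (l.map fv) x = 0 := by
    intro l hlE hlc hlen h1 x
    obtain ⟨g, hg, hgx⟩ := hlist l hlE hlc
    obtain ⟨c, hc⟩ := hker g (hg.trans h1)
    obtain ⟨z, hz0, hz⟩ := S.exists_perp_list h6 (L := l.map fv) (by simpa using hlen)
    have hz1 : tsum B (l.map fv) z = 0 := List.sum_eq_zero fun u hu => by
      obtain ⟨v, hv, rfl⟩ := List.mem_map.1 hu
      rw [hz v hv, zero_smul]
    have e1 : c • z = z := by rw [← hc, hgx, hz1, add_zero]
    have hc1 : c = 1 := by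
      have : (c - 1) • z = 0 := by rw [sub_smul, one_smul, e1, sub_self]
      simpa [sub_eq_zero, hz0] using this
    have := hgx x
    rwa [hc, hc1, one_smul, left_eq_add] at this
  refine ⟨?_, ?_, ?_, ?_, ?_⟩
  · intro a ha b hb hab
    by_contra hne'
    have hva := hfv a ha
    have hvb := hfv b hb
    have hn := hnpr hva hvb hne'
    have hab' : B (fv a) (fv b) = 0 := (hcm hva hvb).1 ((hab a ha).1 (Commute.refl a)).symm
    obtain ⟨z, hz, h1, h2⟩ := S.exists_sep hab' hvb.2.1 hn.1
    obtain ⟨e, he, hr⟩ := hall (w := z) (fun h => zero_ne_one (by rw [h, map_zero] at h2; exact h2)) hz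
    have := (hcm hvb hr).1 ((hab e he).1 ((hcm hva hr).2 h1))
    exact zero_ne_one (this.symm.trans h2)
  · intro a ha b hb hab
    have hva := hfv a ha
    have hvb := hfv b hb
    obtain ⟨z, hz, h1, h2, h3⟩ := S.exists_sep' hva.2.1 (w := fv b) fun h => hab ((hcm hva hvb).2 h)
    obtain ⟨e, he, hr⟩ := hall (w := z) (fun h => h2 (by rw [h, map_zero])) hz
    refine ⟨e, he, fun h => ?_, (hcm hva hr).2 h1, fun h => h2 ((hcm hvb hr).1 h)⟩
    subst h
    obtain ⟨z', -, hz'⟩ := S.exists_dual (W := ⊥) (r := fv e) (by simpa using hva.1)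
    obtain ⟨-, -, g, hg, hgx⟩ := hva
    obtain ⟨-, -, g', hg', hgx'⟩ := hr
    obtain ⟨c, hc⟩ := hker (g⁻¹ * g') (by rw [map_mul, map_inv, hg, hg', inv_mul_cancel])
    obtain ⟨u, hu0, hu1, hu2, -⟩ := S.exists_perp (fv e) z z
    have e0 : g'.1.1 u = g.1.1 (c • u) := by
      rw [← hc]
      change _ = (g * (g⁻¹ * g')).1.1 u
      rw [mul_inv_cancel_left]
    rw [hgx', hgx, tv_apply, tv_apply, map_smul, hu1, hu2, smul_zero, zero_smul, zero_smul,
      add_zero, add_zero] at e0
    have hc1 : c = 1 := by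
      have : (c - 1) • u = 0 := by rw [sub_smul, one_smul, ← e0, sub_self]
      simpa [sub_eq_zero, hu0] using this
    have e1 : ∀ x, tv B z x = tv B (fv e) x := fun x => by
      rw [← hgx', ← hgx]
      have : (g * (g⁻¹ * g')).1.1 x = g.1.1 x := by
        change g.1.1 ((g⁻¹ * g').1.1 x) = _
        rw [hc, hc1, one_smul]
      rwa [mul_inv_cancel_left] at this
    obtain ⟨k, hk, hk'⟩ := S.tv_inj (v := z) (w := fv e) (hfv e he).1 e1
    exact h3 k⁻¹ (by rw [hk', smul_smul, inv_mul_cancel₀ hk, one_smul])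
  · intro a ha
    have hva := hfv a ha
    obtain ⟨z, hz, h1, -⟩ := S.exists_both hva.2.1 hva.2.1 hva.2.1 hva.1 hva.1
    obtain ⟨e, he, hr⟩ := hall (w := z) (fun h => h1 (by rw [h, map_zero])) hz
    exact ⟨e, he, fun h => h1 ((hcm hva hr).1 h)⟩
  · intro l hnd hlE hlc hl0 hlen h1
    have hr := hrel l hlE hlc (hlen.trans (by norm_num)) h1
    have hn : ∀ a ∈ l, ∀ b ∈ l, a ≠ b → Npr (F := F) (fv a) (fv b) :=
      fun a ha b hb hab => hnpr (hfv a (hlE a ha)) (hfv b (hlE b hb)) hab
    match l, hl0, hlen, hnd, hlE, hn, hr with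
    | [a], _, _, _, hlE, _, hr =>
      exact (hfv a (hlE a List.mem_cons_self)).1 (S.rel_one fun x => by simpa [tsum] using hr x)
    | [a, b], _, _, hnd, _, hn, hr =>
      simp only [List.nodup_cons, List.mem_singleton] at hnd
      exact S.rel_two (hn a (by simp) b (by simp) hnd.1) fun x => by simpa [tsum] using hr x
    | [a, b, c], _, _, hnd, _, hn, hr =>
      simp only [List.nodup_cons, List.mem_cons, List.mem_singleton, not_or, List.not_mem_nil,
        not_false_eq_true, List.nodup_nil, and_true] at hnd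
      obtain ⟨⟨hab, hac⟩, hbc⟩ := hnd
      exact S.rel_three (hn a (by simp) b (by simp) hab) (hn a (by simp) c (by simp) hac)
        (hn b (by simp) c (by simp) hbc) fun x => by simpa [tsum, add_assoc] using hr x
    | [a, b, c, d], _, _, hnd, _, hn, hr =>
      simp only [List.nodup_cons, List.mem_cons, List.mem_singleton, not_or, List.not_mem_nil,
        not_false_eq_true, List.nodup_nil, and_true] at hnd
      obtain ⟨⟨hab, hac, had⟩, ⟨hbc, hbd⟩, hcd⟩ := hnd
      exact S.rel_four (hn a (by simp) b (by simp) hab) (hn a (by simp) c (by simp) hac)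
        (hn a (by simp) d (by simp) had) (hn b (by simp) c (by simp) hbc)
        (hn b (by simp) d (by simp) hbd) (hn c (by simp) d (by simp) hcd)
        fun x => by simpa [tsum, add_assoc] using hr x
    | _ :: _ :: _ :: _ :: _ :: _, _, hlen, _, _, _, _ => simp only [List.length_cons] at hlen; omega
  · intro p hp q hq hpq hcpq
    have hvp := hfv p hp
    have hvq := hfv q hq
    set v := fv p with hvdef
    set w := fv q with hwdef
    have hn : Npr (F := F) v w := hnpr hvp hvq hpq
    have hvw : B v w = 0 := (hcm hvp hvq).1 hcpq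
    obtain ⟨ω, hω⟩ := S.trace
    have hω0 : ω ≠ 0 := fun e => by simp [e] at hω
    have hω1 : ω + 1 ≠ 0 := fun e => by
      rw [S.eq_of_add e, map_one, S.two] at hω
      exact zero_ne_one hω
    have hpt : ∀ l : F, l ≠ 0 → ∃ r ∈ E, Rep π (v + l • w) r ∧ r ≠ p ∧ r ≠ q := by
      intro l hl
      have h0 : v + l • w ≠ 0 := fun e => hn.2 l (S.veq_of_add e)
      obtain ⟨r, hr, hrr⟩ := hall (w := v + l • w) h0 (by
        rw [S.herm.add_self, S.herm.smul_self, map_smul, hvp.2.1, hvq.2.1, hvw]; simp)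
      refine ⟨r, hr, hrr, ?_, ?_⟩
      · rintro rfl
        obtain ⟨z, hz, h1, h2⟩ := S.exists_sep hvw hvq.2.1 hn.1
        obtain ⟨e, he, hre⟩ := hall (w := z) (fun h => zero_ne_one (by rw [h, map_zero] at h2; exact h2)) hz
        have := (hcm hrr hre).1 ((hcm hvp hre).2 h1)
        rw [map_add, LinearMap.add_apply, h1, zero_add, map_smulₛₗ, LinearMap.smul_apply, h2,
          smul_eq_mul, mul_one, map_eq_zero] at this
        exact hl this
      · rintro rfl
        obtain ⟨z, hz, h1, h2⟩ := S.exists_sep (S.symm0 hvw) hvp.2.1 hn.2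
        obtain ⟨e, he, hre⟩ := hall (w := z) (fun h => zero_ne_one (by rw [h, map_zero] at h2; exact h2)) hz
        have := (hcm hrr hre).1 ((hcm hvq hre).2 h1)
        rw [map_add, LinearMap.add_apply, map_smulₛₗ, LinearMap.smul_apply, h1, h2, smul_zero,
          add_zero] at this
        exact one_ne_zero this
    obtain ⟨y1, hy1, hr1, h1p, h1q⟩ := hpt 1 one_ne_zero
    obtain ⟨y2, hy2, hr2, h2p, h2q⟩ := hpt ω hω0
    obtain ⟨y3, hy3, hr3, h3p, h3q⟩ := hpt (ω + 1) hω1
    have hinj : ∀ {l m : F} {y : X}, Rep π (v + l • w) y → Rep π (v + m • w) y → l = m := by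
      intro l m y hl hm
      by_contra hlm
      obtain ⟨z, hz, h1, h2⟩ := S.exists_sep hvw hvq.2.1 hn.1
      obtain ⟨u, hu1, hu2⟩ := S.exists_dual (W := Submodule.span F {v + l • w}) (r := v + m • w) (by
        rw [Submodule.mem_span_singleton]
        rintro ⟨c, hc⟩
        have h3 := congrArg (fun t => B z t) hc
        obtain ⟨z', hz', h1', h2'⟩ := S.exists_sep (S.symm0 hvw) hvp.2.1 hn.2
        have h4 := congrArg (fun t => B z' t) hc
        have hzv : B z v = 0 := S.symm0 h1
        have hzw : B z w = 1 := by rw [← S.herm.symm w z, h2, map_one]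
        have hz'v : B z' v = 1 := by rw [← S.herm.symm v z', h2', map_one]
        have hz'w : B z' w = 0 := S.symm0 h1'
        simp only [map_add, map_smul, hzv, hzw, zero_add, smul_eq_mul, mul_one] at h3
        simp only [map_add, map_smul, hz'v, hz'w, mul_zero, add_zero, smul_eq_mul, mul_one] at h4
        rw [h4, one_mul] at h3
        exact hlm h3)
      have hvlm : B (v + l • w) (v + m • w) = 0 := by
        simp [map_add, map_smulₛₗ, hvp.2.1, hvq.2.1, hvw, S.symm0 hvw]
      obtain ⟨a, ha⟩ := S.exists_iso hm.2.1 hu2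
      have e1 : B (v + l • w) (u + a • (v + m • w)) = 0 := by
        rw [map_add, map_smul (B (v + l • w)), hvlm, hu1 _ (Submodule.mem_span_singleton_self _),
          smul_zero, add_zero]
      have e2 : B (v + m • w) (u + a • (v + m • w)) = 1 := by
        rw [map_add, map_smul (B (v + m • w)), hm.2.1, hu2, smul_zero, add_zero]
      obtain ⟨e, he, hre⟩ := hall (w := u + a • (v + m • w))
        (fun h => zero_ne_one (by rw [h, map_zero] at e2; exact e2)) ha
      exact zero_ne_one (((hcm hm hre).1 ((hcm hl hre).2 e1)).symm.trans e2)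
    have hne1 : (1 : F) ≠ 0 := one_ne_zero
    have h12 : y1 ≠ y2 := fun e => by
      have := hinj (e ▸ hr1) hr2
      rw [← this, map_one, S.two] at hω
      exact zero_ne_one hω
    have h13 : y1 ≠ y3 := fun e => by
      have := hinj (e ▸ hr1) hr3
      exact hω0 (by linear_combination -this)
    have h23 : y2 ≠ y3 := fun e => by
      have := hinj (e ▸ hr2) hr3
      exact hne1 (by linear_combination -this)
    refine ⟨[y1, y2, y3], by simp [h12, h13, h23], rfl, fun r => ⟨?_, ?_⟩, ?_, ?_, ?_⟩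
    · have key : ∀ {l : F} {y : X}, y ∈ E → Rep π (v + l • w) y → y ≠ p → y ≠ q →
          y ∈ E ∧ y ≠ p ∧ y ≠ q ∧ Commute p y ∧ Commute q y ∧
            ∀ e ∈ E, Commute p e → Commute q e → Commute y e := by
        intro l y hy hry hyp hyq
        refine ⟨hy, hyp, hyq, (hcm hvp hry).2 ?_, (hcm hvq hry).2 ?_, fun e he h1 h2 => ?_⟩
        · simp [map_add, hvp.2.1, hvw]
        · simp [map_add, hvq.2.1, S.symm0 hvw]
        · have e1 := (hcm hvp (hfv e he)).1 h1
          have e2 := (hcm hvq (hfv e he)).1 h2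
          refine (hcm hry (hfv e he)).2 ?_
          simp [map_add, e1, e2]
      simp only [List.mem_cons, List.not_mem_nil, or_false]
      rintro (rfl | rfl | rfl)
      exacts [key hy1 hr1 h1p h1q, key hy2 hr2 h2p h2q, key hy3 hr3 h3p h3q]
    · rintro ⟨hr, hrp, hrq, hpr, hqr, hall'⟩
      have hvr := hfv r hr
      have hspan : fv r ∈ Submodule.span F {v, w} := by
        by_contra hout
        obtain ⟨d, d1, d2, d3⟩ := S.exists_dual2 hout
        obtain ⟨a, ha⟩ := S.exists_iso hvr.2.1 d3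
        have e1 : B v (d + a • fv r) = 0 := by
          rw [map_add, map_smul, d1, (hcm hvp hvr).1 hpr, smul_zero, add_zero]
        have e2 : B w (d + a • fv r) = 0 := by
          rw [map_add, map_smul, d2, (hcm hvq hvr).1 hqr, smul_zero, add_zero]
        have e3 : B (fv r) (d + a • fv r) = 1 := by
          rw [map_add, map_smul, d3, hvr.2.1, smul_zero, add_zero]
        obtain ⟨e, he, hre⟩ := hall (w := d + a • fv r)
          (fun h => zero_ne_one (by rw [h, map_zero] at e3; exact e3)) ha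
        exact zero_ne_one (((hcm hvr hre).1 (hall' e he ((hcm hvp hre).2 e1)
          ((hcm hvq hre).2 e2))).symm.trans e3)
      obtain ⟨a, b, hab⟩ := Submodule.mem_span_pair.1 hspan
      have ha0 : a ≠ 0 := fun h0 => (hnpr hvq hvr (Ne.symm hrq)).1 b
        (by rw [← hab, h0, zero_smul, zero_add])
      have hb0 : b ≠ 0 := fun h0 => (hnpr hvp hvr (Ne.symm hrp)).1 a
        (by rw [← hab, h0, zero_smul, add_zero])
      have hrr : Rep π (v + (a⁻¹ * b) • w) r := by
        have := S.rep_smul (inv_ne_zero ha0) hvr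
        rwa [← hab, smul_add, smul_smul, smul_smul, inv_mul_cancel₀ ha0, one_smul] at this
      rcases S.field_three hω (mul_ne_zero (inv_ne_zero ha0) hb0) with h | h | h <;> rw [h] at hrr
      · simp [S.rep_unique hrr hr1]
      · simp [S.rep_unique hrr hr2]
      · simp [S.rep_unique hrr hr3]
    · have hc : ∀ {l m : F} {y y' : X}, Rep π (v + l • w) y → Rep π (v + m • w) y' → Commute y y' :=
        fun h h' => (hcm h h').2 (by simp [map_add, hvp.2.1, hvq.2.1, hvw, S.symm0 hvw])
      intro a ha b hb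
      simp only [List.mem_cons, List.not_mem_nil, or_false] at ha hb
      rcases ha with rfl | rfl | rfl <;> rcases hb with rfl | rfl | rfl <;>
        first
        | exact Commute.refl _
        | exact hc (by assumption) (by assumption)
        | exact (hc hr1 hr2) | exact (hc hr1 hr3) | exact (hc hr2 hr3)
        | exact (hc hr2 hr1) | exact (hc hr3 hr1) | exact (hc hr3 hr2)
    · obtain ⟨g1, e1, x1⟩ := hvp.2.2
      obtain ⟨g2, e2, x2⟩ := hvq.2.2
      obtain ⟨-, -, g3, e3, x3⟩ := hr1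
      obtain ⟨-, -, g4, e4, x4⟩ := hr2
      obtain ⟨-, -, g5, e5, x5⟩ := hr3
      have hg : [g1, g2, g3, g4, g5].prod = 1 := sIsom_ext fun x => by
        rw [sIsom_list_prod [g1, g2, g3, g4, g5]
          ([v, w, v + (1 : F) • w, v + ω • w, v + (ω + 1) • w].map (tv B))
          (.cons x1 (.cons x2 (.cons x3 (.cons x4 (.cons x5 .nil))))), prod_tv ?_ ?_,
          S.rel_line hω, add_zero]
        · rfl
        · intro u hu
          simp only [List.mem_cons, List.not_mem_nil, or_false] at hu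
          rcases hu with rfl | rfl | rfl | rfl | rfl <;>
            simp [map_add, hvp.2.1, hvq.2.1, hvw, S.symm0 hvw]
        · intro u hu u' hu'
          simp only [List.mem_cons, List.not_mem_nil, or_false] at hu hu'
          rcases hu with rfl | rfl | rfl | rfl | rfl <;> rcases hu' with rfl | rfl | rfl | rfl | rfl <;>
            simp [map_add, hvp.2.1, hvq.2.1, hvw, S.symm0 hvw]
      have := congrArg π hg
      rw [map_one, map_list_prod] at this
      simpa [e1, e2, e3, e4, e5, mul_assoc] using this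
    · intro r s t hr hs ht hnd hcom hprod
      have hlE : ∀ a ∈ [p, q, r, s, t], a ∈ E := by simp [hp, hq, hr, hs, ht]
      have hrel5 := hrel [p, q, r, s, t] hlE hcom le_rfl (by simpa [mul_assoc] using hprod)
      simp only [List.nodup_cons, List.mem_cons, not_or, List.not_mem_nil,
        not_false_eq_true, List.nodup_nil, and_true] at hnd
      obtain ⟨⟨-, hpr, -, hpt'⟩, ⟨hqr, -, -⟩, ⟨-, -⟩, hst⟩ := hnd
      have hspan := S.rel_five (v := v) (w := w) (u := fv r) (s := fv s) (t := fv t) hn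
        (hnpr hvp (hfv t ht) hpt') (hnpr (hfv s hs) (hfv t ht) hst)
        (fun x => by simpa [tsum, add_assoc] using hrel5 x)
      obtain ⟨a, b, hab⟩ := Submodule.mem_span_pair.1 hspan
      have hvr := hfv r hr
      have ha0 : a ≠ 0 := fun h0 => (hnpr hvq hvr hqr).1 b
        (by rw [← hab, h0, zero_smul, zero_add])
      have hb0 : b ≠ 0 := fun h0 => (hnpr hvp hvr hpr).1 a
        (by rw [← hab, h0, zero_smul, add_zero])
      have hrr : Rep π (v + (a⁻¹ * b) • w) r := by
        have := S.rep_smul (inv_ne_zero ha0) hvr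
        rwa [← hab, smul_add, smul_smul, smul_smul, inv_mul_cancel₀ ha0, one_smul] at this
      rcases S.field_three hω (mul_ne_zero (inv_ne_zero ha0) hb0) with h | h | h <;> rw [h] at hrr
      · simp [S.rep_unique hrr hr1]
      · simp [S.rep_unique hrr hr2]
      · simp [S.rep_unique hrr hr3]

end Setting

/-- The line facts hold in every group isomorphic to the projective special unitary group. -/
theorem lineFacts_of_iso {X : Type*} [Group X] {F : Type*} [Field F] [Fintype F]
    (hF : Fintype.card F = 4) (e : X ≃* Cfsg.PSU 6 F 2) {E : Set X}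
    (hinv : ∀ e ∈ E, e ≠ 1 ∧ e * e = 1) (hconj : ∀ g : X, ∀ e ∈ E, g * e * g⁻¹ ∈ E)
    (htt : ∀ a ∈ E, ∀ b ∈ E, (a * b) ^ 2 = 1 ∨ (a * b) ^ 3 = 1) (hne : E.Nonempty) :
    LineFacts E := by
  classical
  have hF' : Fintype.card F = 2 ^ 2 := by rw [hF]; norm_num
  obtain ⟨σ, hσ, hc⟩ := exists_frob hF'
  have h4 : (4 : F) = 0 := by
    have := Nat.cast_card_eq_zero F
    rw [hF] at this
    simpa using this
  have h2 : (2 : F) = 0 := by
    have : (2 : F) * 2 = 0 := by linear_combination h4
    simpa using this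
  have hS : Setting (stdHerm σ 6) := {
    herm := stdHerm_isHermitian hc 6
    sep := stdHerm_sepRight 6
    dim := by rw [Module.finrank_fin_fun]; norm_num
    two := fun x => by rw [← two_mul, h2, zero_mul]
    norm := fun x hx => by
      have := FiniteField.pow_card_sub_one_eq_one x hx
      rw [hF] at this
      rw [hσ]
      linear_combination this
    fixed := fun x hx => by
      rw [hσ] at hx
      have : x * (x - 1) = 0 := by linear_combination hx
      simpa [sub_eq_zero] using this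
    trace := by
      obtain ⟨w, hw0, hw1⟩ : ∃ w : F, w ≠ 0 ∧ w ≠ 1 := by
        by_contra hcon
        push Not at hcon
        have : Fintype.card F ≤ ({0, 1} : Finset F).card := Finset.card_le_card fun x _ => by
          rcases eq_or_ne x 0 with h | h
          · simp [h]
          · simp [hcon x h]
        have := this.trans Finset.card_le_two
        omega
      refine ⟨w, ?_⟩
      have h3 : w ^ 3 = 1 := by
        have := FiniteField.pow_card_sub_one_eq_one w hw0
        rwa [hF] at this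
      have : (w - 1) * (w * w + w + 1) = 0 := by linear_combination h3
      rw [hσ]
      linear_combination ((mul_eq_zero.1 this).resolve_left (sub_ne_zero.2 hw1)) - h2 }
  let π : ↥(sIsom (stdHerm σ 6)) →* X :=
    e.symm.toMonoidHom.comp ((QuotientGroup.mk' _).comp (suEquiv hσ).symm.toMonoidHom)
  refine hS.lineFacts_of_hom (by rw [Module.finrank_fin_fun]) π ?_ (fun g hg => ?_) hinv hconj htt hne
  · exact e.symm.surjective.comp
      ((QuotientGroup.mk'_surjective _).comp (suEquiv hσ).symm.surjective)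
  obtain ⟨A, rfl⟩ := (suEquiv hσ).surjective g
  have hA : A ∈ Subgroup.center (Cfsg.SU 6 F 2) := by
    simpa [π, QuotientGroup.eq_one_iff] using hg
  have hcomm : ∀ x ∈ Cfsg.GU 6 F 2, Matrix.GeneralLinearGroup.det x = 1 →
      (A.1 : Matrix (Fin 6) (Fin 6) F) * (x : Matrix (Fin 6) (Fin 6) F)
        = (x : Matrix (Fin 6) (Fin 6) F) * (A.1 : Matrix (Fin 6) (Fin 6) F) := by
    intro x hx hdet
    obtain ⟨C, hC⟩ : (⟨x, hx⟩ : Cfsg.GU 6 F 2) ∈ (suToGU 6 F 2).range := by
      rw [suToGU_range hσ, MonoidHom.mem_ker, guDet_eq_one_iff]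
      exact hdet
    have e0 := congrArg (fun y : Cfsg.GU 6 F 2 => (y.1 : Matrix (Fin 6) (Fin 6) F))
      (congrArg (suToGU 6 F 2) (Subgroup.mem_center_iff.1 hA C).symm)
    simp only [map_mul, hC] at e0
    exact e0
  obtain ⟨c, hc'⟩ := scalar_of_commute hF' (by norm_num) _ hcomm
  exact ⟨c, fun x => by
    rw [suEquiv_apply, hc', Matrix.smul_mulVec, Matrix.one_mulVec]⟩

end CfsgLib.ThreeTransp.UnitarySix
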