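import Cfsg.Agent.Lib.Classical.HermTransv

/-!
# Unitary transvections over the field with four elements

For a Hermitian form over the field with four elements: transvections `x ↦ x + B(v,x) v` of
isotropic vectors, relations between few of them, and the fact that an involutory isometry other
than a transvection has, with one of its conjugates, a product of order five.
-/

set_option autoImplicit false
set_option linter.unusedSectionVars false

namespace CfsgLib.ThreeTransp.UnitarySix

open Module CfsgLib.Classical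

variable {F : Type*} [Field F] [Finite F] {V : Type*} [AddCommGroup V] [Module F V]
  [FiniteDimensional F V] {σ : F →+* F}

/-- The transvection attached to a vector. -/
def tv (B : V →ₛₗ[σ] V →ₗ[F] F) (v : V) : V →ₗ[F] V := LinearMap.transvection (B v) v

/-- A non-degenerate Hermitian form over the field with four elements. -/
structure Setting (B : V →ₛₗ[σ] V →ₗ[F] F) : Prop where
  herm : IsHermitian B
  sep : B.SeparatingRight
  dim : 4 ≤ finrank F V
  two : ∀ x : F, x + x = 0
  norm : ∀ x : F, x ≠ 0 → x * σ x = 1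
  fixed : ∀ x : F, σ x = x → x = 0 ∨ x = 1
  trace : ∃ w : F, w + σ w = 1

variable {B : V →ₛₗ[σ] V →ₗ[F] F}

theorem tv_apply (v x : V) : tv B v x = x + B v x • v := LinearMap.transvection.apply _ _ _

/-- Adding the transvection terms of a list of vectors. -/
def tsum (B : V →ₛₗ[σ] V →ₗ[F] F) (L : List V) (x : V) : V := (L.map fun v => B v x • v).sum

theorem prod_tv {L : List V} (hiso : ∀ v ∈ L, B v v = 0) (horth : ∀ v ∈ L, ∀ w ∈ L, B v w = 0) :
    ∀ x, (L.map (tv B)).prod x = x + tsum B L x := by
  induction L with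
  | nil => intro x; simp [tsum]
  | cons v L ih =>
    intro x
    have hz : B v (tsum B L x) = 0 := by
      rw [tsum, map_list_sum, List.map_map]
      refine List.sum_eq_zero ?_
      intro c hc
      rw [List.mem_map] at hc
      obtain ⟨w, hw, rfl⟩ := hc
      simp [horth v List.mem_cons_self w (List.mem_cons_of_mem _ hw)]
    rw [List.map_cons, List.prod_cons, Module.End.mul_apply,
      ih (fun w hw => hiso w (List.mem_cons_of_mem _ hw))
        (fun a ha b hb => horth a (List.mem_cons_of_mem _ ha) b (List.mem_cons_of_mem _ hb)) x,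
      tv_apply, map_add, hz, add_zero]
    simp only [tsum, List.map_cons, List.sum_cons]
    abel

namespace Setting

variable (S : Setting B)
include S

theorem vtwo (x : V) : x + x = 0 := by
  rw [← two_smul F x, show (2 : F) = 0 by rw [← one_add_one_eq_two]; exact S.two 1, zero_smul]

theorem eq_of_add {a b : F} (h : a + b = 0) : a = b := by
  linear_combination h - S.two b

theorem veq_of_add {a b : V} (h : a + b = 0) : a = b := by
  rw [eq_neg_of_add_eq_zero_left h, ← eq_neg_of_add_eq_zero_left (S.vtwo b)]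

theorem symm0 {x y : V} (h : B x y = 0) : B y x = 0 := S.herm.isRefl x y h

theorem self_val (x : V) : B x x = 0 ∨ B x x = 1 := S.fixed _ (S.herm.self_fixed x)

theorem exists_dual {W : Submodule F V} {r : V} (hr : r ∉ W) :
    ∃ z, (∀ a ∈ W, B a z = 0) ∧ B r z = 1 := by
  obtain ⟨f, hf, hW⟩ := Submodule.exists_dual_map_eq_bot_of_notMem hr inferInstance
  obtain ⟨z, hz⟩ := S.herm.exists_form_eq S.sep ((f r)⁻¹ • f)
  refine ⟨z, fun a ha => S.symm0 ?_, ?_⟩
  · have h0 : f a = 0 := (Submodule.mem_bot F).1 (hW ▸ Submodule.mem_map_of_mem ha)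
    rw [hz, LinearMap.smul_apply, h0, smul_zero]
  · rw [← S.herm.symm z r, hz, LinearMap.smul_apply, smul_eq_mul, inv_mul_cancel₀ hf, map_one]

/-- Adjusting a vector into an isotropic one. -/
theorem exists_iso {u r : V} (hr : B r r = 0) (hu : B r u = 1) : ∃ a : F, B (u + a • r) (u + a • r) = 0 := by
  rcases S.self_val u with h | h
  · exact ⟨0, by simpa using h⟩
  · obtain ⟨w, hw⟩ := S.trace
    refine ⟨w, ?_⟩
    rw [S.herm.add_self, S.herm.smul_self, hr, h, map_smul, smul_eq_mul,
      show B u r = 1 by rw [← S.herm.symm r u, hu, map_one]]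
    simp [hw, S.two]

theorem exists_perp (u v w : V) : ∃ z : V, z ≠ 0 ∧ B u z = 0 ∧ B v z = 0 ∧ B w z = 0 := by
  let f : V →ₗ[F] F × F × F := (B u).prod ((B v).prod (B w))
  have hk : LinearMap.ker f ≠ ⊥ := by
    intro h
    have h1 := LinearMap.finrank_le_finrank_of_injective (LinearMap.ker_eq_bot.1 h)
    have := S.dim
    simp at h1
    omega
  obtain ⟨z, hz, hz0⟩ := Submodule.exists_mem_ne_zero_of_ne_bot hk
  rw [LinearMap.mem_ker] at hz
  exact ⟨z, hz0, congrArg Prod.fst hz, congrArg (fun t => t.2.1) hz, congrArg (fun t => t.2.2) hz⟩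

theorem tv_preserves {v : V} (hv : B v v = 0) (x y : V) : B (tv B v x) (tv B v y) = B x y := by
  simp only [tv_apply, map_add, map_smul, map_smulₛₗ, LinearMap.add_apply, LinearMap.smul_apply,
    smul_eq_mul, hv, S.herm.symm, RingHom.id_apply]
  linear_combination S.two (B v y * B x v)

theorem tv_tv {v : V} (hv : B v v = 0) (x : V) : tv B v (tv B v x) = x := by
  rw [tv_apply, tv_apply, map_add, map_smul, hv, smul_zero, add_zero, add_assoc, S.vtwo, add_zero]

theorem tv_smul {c : F} (hc : c ≠ 0) (v : V) : tv B (c • v) = tv B v := by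
  refine LinearMap.ext fun x => ?_
  simp only [tv_apply, map_smulₛₗ, LinearMap.smul_apply, smul_eq_mul, smul_smul]
  rw [mul_right_comm, mul_comm (σ c) c, S.norm c hc, one_mul]

theorem tv_ne_one {v : V} (hv0 : v ≠ 0) (hv : B v v = 0) : ∃ x, tv B v x ≠ x := by
  obtain ⟨z, -, hz⟩ := S.exists_dual (W := ⊥) (r := v) (by simpa using hv0)
  refine ⟨z, fun h => hv0 ?_⟩
  rw [tv_apply, add_eq_left, hz, one_smul] at h
  exact h

/-- Equal transvections have proportional vectors. -/
theorem tv_inj {v w : V} (hw : w ≠ 0) (h : ∀ x, tv B v x = tv B w x) :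
    ∃ c : F, c ≠ 0 ∧ w = c • v := by
  obtain ⟨z, -, hz⟩ := S.exists_dual (W := ⊥) (r := w) (by simpa using hw)
  have h1 := h z
  rw [tv_apply, tv_apply, hz, one_smul, add_right_inj] at h1
  refine ⟨B v z, fun e => hw ?_, h1.symm⟩
  rw [← h1, e, zero_smul]

theorem not_smul {v w : V} (hv : B v v = 0) (h : B v w ≠ 0) (c : F) : w ≠ c • v := fun e => h (by
  rw [e, map_smul, hv, smul_zero])

/-- Transvections commuting up to a scalar have orthogonal vectors. -/
theorem orth_of_commute {v w : V} (hv : B v v = 0) (hw : B w w = 0) {l : F}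
    (h : ∀ x, tv B v (tv B w x) = l • tv B w (tv B v x)) : B v w = 0 := by
  by_contra hvw
  obtain ⟨z, hz0, hz1, hz2, -⟩ := S.exists_perp v w v
  have hz := h z
  simp only [tv_apply, hz1, hz2, zero_smul, add_zero] at hz
  have hl : l = 1 := by
    have h' : (l - 1) • z = 0 := by rw [sub_smul, one_smul, ← hz, sub_self]
    simpa [sub_eq_zero, hz0] using h'
  have hv0 : v ∉ (Submodule.span F {w}) := by
    rw [Submodule.mem_span_singleton]
    rintro ⟨c, hc⟩
    exact hvw (by rw [← hc, map_smulₛₗ, LinearMap.smul_apply, hw, smul_zero])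
  obtain ⟨u, hu1, hu2⟩ := S.exists_dual hv0
  have hu1' : B w u = 0 := hu1 w (Submodule.mem_span_singleton_self w)
  have hu := h u
  rw [hl, one_smul] at hu
  simp only [tv_apply, map_add, map_smul, hu1', hu2, zero_smul, add_zero, one_smul,
    smul_eq_mul, zero_add, mul_zero, mul_one] at hu
  have hwv : B w v = 0 := by
    by_contra hwv
    have h2 : (B w v) • w = 0 := by
      have := hu.symm
      rwa [add_right_inj, add_eq_left] at this
    rcases smul_eq_zero.1 h2 with h3 | h3
    · exact hwv h3
    · exact hwv (by simp [h3])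
  exact hvw (S.symm0 hwv)

theorem commute_of_orth {v w : V} (h : B v w = 0) (x : V) :
    tv B v (tv B w x) = tv B w (tv B v x) := by
  simp only [tv_apply, map_add, map_smul, h, S.symm0 h, zero_smul, add_zero, smul_zero]
  abel

/-- The braid relation, as a movement of vectors. -/
theorem braid_move {v w : V} (hv : B v v = 0) (hw : B w w = 0) (h : B v w ≠ 0) :
    ∃ c : F, c ≠ 0 ∧ tv B v (tv B w v) = c • w := by
  have h1 : B w v ≠ 0 := fun e => h (S.symm0 e)
  refine ⟨B w v, h1, ?_⟩
  have e : B w v * B v w = 1 := by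
    rw [← S.herm.symm w v]
    exact S.norm _ h1
  simp only [tv_apply, map_add, map_smul, hv, zero_add, smul_eq_mul, zero_smul, add_zero, smul_add,
    smul_smul, e, one_smul]
  rw [add_left_comm, S.vtwo, add_zero]

/-- A vector orthogonal to the first but not the second of two orthogonal points. -/
theorem exists_sep {v w : V} (hvw : B v w = 0) (hw : B w w = 0) (hne : ∀ c : F, w ≠ c • v) :
    ∃ z, B z z = 0 ∧ B v z = 0 ∧ B w z = 1 := by
  obtain ⟨u, hu1, hu2⟩ := S.exists_dual (W := Submodule.span F {v}) (r := w) (by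
    rw [Submodule.mem_span_singleton]
    rintro ⟨c, hc⟩
    exact hne c hc.symm)
  obtain ⟨a, ha⟩ := S.exists_iso hw hu2
  refine ⟨_, ha, ?_, ?_⟩
  · rw [map_add, map_smul, hvw, hu1 v (Submodule.mem_span_singleton_self v), smul_zero, add_zero]
  · rw [map_add, map_smul, hw, hu2, smul_zero, add_zero]

/-- A common non-orthogonal point of two orthogonal points. -/
theorem exists_both {v w : V} (hv : B v v = 0) (hw : B w w = 0) (hvw : B v w = 0) (hv0 : v ≠ 0)
    (hw0 : w ≠ 0) : ∃ z, B z z = 0 ∧ B v z ≠ 0 ∧ B w z ≠ 0 := by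
  by_cases hne : ∃ c : F, w = c • v
  · obtain ⟨c, rfl⟩ := hne
    obtain ⟨u, -, hu⟩ := S.exists_dual (W := ⊥) (r := v) (by simpa using hv0)
    obtain ⟨a, ha⟩ := S.exists_iso hv hu
    have e : B v (u + a • v) = 1 := by rw [map_add, map_smul, hv, hu, smul_zero, add_zero]
    refine ⟨_, ha, by rw [e]; exact one_ne_zero, ?_⟩
    rw [map_smulₛₗ, LinearMap.smul_apply, e, smul_eq_mul, mul_one]
    exact fun h => hw0 (by rw [show c = 0 by simpa using h, zero_smul])
  push Not at hne
  obtain ⟨u, hu1, hu2⟩ := S.exists_dual (W := Submodule.span F {v}) (r := w) (by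
    rw [Submodule.mem_span_singleton]
    rintro ⟨c, hc⟩
    exact hne c hc.symm)
  obtain ⟨u', hu1', hu2'⟩ := S.exists_dual (W := Submodule.span F {w}) (r := v) (by
    rw [Submodule.mem_span_singleton]
    rintro ⟨c, hc⟩
    refine hne c⁻¹ ?_
    have hc0 : c ≠ 0 := fun e => hv0 (by rw [← hc, e, zero_smul])
    rw [← hc, smul_smul, inv_mul_cancel₀ hc0, one_smul])
  have e1 := hu1 v (Submodule.mem_span_singleton_self v)
  have e2 := hu1' w (Submodule.mem_span_singleton_self w)
  have hs : B v (u + u') = 1 := by rw [map_add, e1, hu2', zero_add]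
  obtain ⟨a, ha⟩ := S.exists_iso hv hs
  refine ⟨_, ha, ?_, ?_⟩
  · rw [map_add, map_smul, hv, hs, smul_zero, add_zero]; exact one_ne_zero
  · rw [map_add, map_smul, map_add, hu2, e2, S.symm0 (S.symm0 (S.symm0 hvw)), smul_zero, add_zero,
      add_zero]
    exact one_ne_zero

/-- A point commuting with the first but not the second of two non-orthogonal points. -/
theorem exists_sep' {v w : V} (hv : B v v = 0) (h : B v w ≠ 0) :
    ∃ e, B e e = 0 ∧ B v e = 0 ∧ B w e ≠ 0 ∧ ∀ c : F, e ≠ c • v := by
  obtain ⟨u, hu0, huu, hvu, hwu⟩ : ∃ u, u ≠ 0 ∧ B u u = 0 ∧ B v u = 0 ∧ B w u = 0 := by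
    obtain ⟨u, hu0, h1, h2, -⟩ := S.exists_perp v w v
    rcases S.self_val u with hu | hu
    · exact ⟨u, hu0, hu, h1, h2⟩
    obtain ⟨u', hu0', h1', h2', h3'⟩ := S.exists_perp v w u
    rcases S.self_val u' with hu' | hu'
    · exact ⟨u', hu0', hu', h1', h2'⟩
    refine ⟨u + u', fun e => ?_, ?_, by rw [map_add, h1, h1', add_zero],
      by rw [map_add, h2, h2', add_zero]⟩
    · rw [S.veq_of_add e, hu'] at h3'
      exact one_ne_zero h3'
    · rw [S.herm.add_self, hu, hu', h3', map_zero, add_zero, add_zero, S.two]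
  have huv : B u v = 0 := S.symm0 hvu
  refine ⟨v + u, by rw [S.herm.add_self, hv, huu, hvu, map_zero]; simp,
    by rw [map_add, hv, hvu, add_zero], ?_, ?_⟩
  · rw [map_add, hwu, add_zero]
    exact fun e => h (S.symm0 e)
  · intro c hc
    have hu' : u = (c - 1) • v := by rw [sub_smul, one_smul, ← hc, add_sub_cancel_left]
    have : c - 1 = 0 := by
      by_contra h0
      refine h (S.symm0 ?_)
      rw [hu', map_smul, smul_eq_zero] at hwu
      exact hwu.resolve_left h0
    exact hu0 (by rw [hu', this, zero_smul])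

end Setting

end CfsgLib.ThreeTransp.UnitarySix
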